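import Mathlib.CategoryTheory.Monoidal.Cartesian.Grp
import Mathlib.CategoryTheory.EquivalenceRelation
import Mathlib.CategoryTheory.EffectiveEpi.Basic
import Mathlib.CategoryTheory.Limits.Shapes.Equalizers
import Mathlib.CategoryTheory.Limits.Shapes.Pullback.IsPullback.Basic

universe v u

open CategoryTheory CategoryTheory.Limits MonoidalCategory
open MonObj CartesianMonoidalCategory SemiCartesianMonoidalCategory

namespace Groth.Agent.ShfQuot.Generic

/-- the exactness properties of a topos that are used for quotients -/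
class ToposLike (𝒮 : Type u) [Category.{v} 𝒮] [HasPullbacks 𝒮] [HasCoequalizers 𝒮] : Prop where
  effectiveEpi {A B : 𝒮} (f : A ⟶ B) [Epi f] : EffectiveEpi f
  epi_of_isPullback {P A Q B : 𝒮} {i₁ : P ⟶ A} {f' : P ⟶ Q} {π : A ⟶ B} {i₂ : Q ⟶ B}
    (h : IsPullback i₁ f' π i₂) [Epi π] : Epi f'
  exists_lift_of_coequalizer {R X : 𝒮} (p₁ p₂ : R ⟶ X) [IsEquivalenceRelation p₁ p₂] (Y : 𝒮)
    (a b : Y ⟶ X) (h : a ≫ coequalizer.π p₁ p₂ = b ≫ coequalizer.π p₁ p₂) :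
    ∃ r : Y ⟶ R, r ≫ p₁ = a ∧ r ≫ p₂ = b

section generic

variable {D : Type*} [Category D] [CartesianMonoidalCategory D]

theorem isPullback_whiskerLeft (Y : D) {A B : D} (f : A ⟶ B) :
    IsPullback (snd Y A) (Y ◁ f) f (snd Y B) := by
  refine ⟨⟨by simp⟩, ⟨?_⟩⟩
  refine PullbackCone.IsLimit.mk _ (fun s => lift (s.snd ≫ fst Y B) s.fst) (fun s => by simp)
    (fun s => ?_) (fun s m h₁ h₂ => ?_)
  · ext
    · simp
    · simp [s.condition]
  · ext
    · simp [← h₂]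
    · simp [← h₁]

theorem isPullback_whiskerRight {A B : D} (f : A ⟶ B) (Y : D) :
    IsPullback (fst A Y) (f ▷ Y) f (fst B Y) := by
  refine ⟨⟨by simp⟩, ⟨?_⟩⟩
  refine PullbackCone.IsLimit.mk _ (fun s => lift s.fst (s.snd ≫ snd B Y)) (fun s => by simp)
    (fun s => ?_) (fun s m h₁ h₂ => ?_)
  · ext
    · simp [s.condition]
    · simp
  · ext
    · simp [← h₁]
    · simp [← h₂]

end generic

variable {𝒮 : Type u} [Category.{v} 𝒮]

section descent

variable [HasPullbacks 𝒮] [HasCoequalizers 𝒮] [ToposLike 𝒮]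

/-- epi refinement -/
theorem exists_epi_lift {Y A B : 𝒮} (f : A ⟶ B) [Epi f] (y : Y ⟶ B) :
    ∃ (Y' : 𝒮) (e : Y' ⟶ Y) (a : Y' ⟶ A), Epi e ∧ e ≫ y = a ≫ f :=
  ⟨_, pullback.snd f y, pullback.fst f y,
    ToposLike.epi_of_isPullback (IsPullback.of_hasPullback f y), pullback.condition.symm⟩

/-- descent along an epimorphism -/
noncomputable def desc {A B Z : 𝒮} (f : A ⟶ B) [Epi f] (m : A ⟶ Z)
    (h : ∀ (Y : 𝒮) (a b : Y ⟶ A), a ≫ f = b ≫ f → a ≫ m = b ≫ m) : B ⟶ Z :=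
  haveI := ToposLike.effectiveEpi f
  EffectiveEpi.desc f m (fun g₁ g₂ hg => h _ g₁ g₂ hg)

@[reassoc (attr := simp)]
theorem fac {A B Z : 𝒮} (f : A ⟶ B) [Epi f] (m : A ⟶ Z)
    (h : ∀ (Y : 𝒮) (a b : Y ⟶ A), a ≫ f = b ≫ f → a ≫ m = b ≫ m) :
    f ≫ desc f m h = m :=
  haveI := ToposLike.effectiveEpi f
  EffectiveEpi.fac f m _

variable [CartesianMonoidalCategory 𝒮]

theorem epi_whiskerLeft (Y : 𝒮) {A B : 𝒮} (f : A ⟶ B) [Epi f] : Epi (Y ◁ f) :=
  ToposLike.epi_of_isPullback (isPullback_whiskerLeft Y f)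

theorem epi_whiskerRight {A B : 𝒮} (f : A ⟶ B) [Epi f] (Y : 𝒮) : Epi (f ▷ Y) :=
  ToposLike.epi_of_isPullback (isPullback_whiskerRight f Y)

theorem epi_tensorHom {A B A' B' : 𝒮} (f : A ⟶ B) (g : A' ⟶ B') [Epi f] [Epi g] :
    Epi (f ⊗ₘ g) := by
  rw [tensorHom_def]
  have := epi_whiskerRight f A'
  have := epi_whiskerLeft B g
  exact epi_comp _ _

end descent

section hom

variable {D : Type*} [Category D] [CartesianMonoidalCategory D]

theorem comp_mul' {M : D} [MonObj M] {Y' Y : D} (e : Y' ⟶ Y) (a b : Y ⟶ M) :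
    e ≫ (a * b) = (e ≫ a) * (e ≫ b) := by
  rw [Hom.mul_def, Hom.mul_def, ← Category.assoc, comp_lift]

theorem comp_inv' {M : D} [GrpObj M] {Y' Y : D} (e : Y' ⟶ Y) (a : Y ⟶ M) :
    e ≫ a⁻¹ = (e ≫ a)⁻¹ := by
  simp [Hom.inv_def]

theorem comp_one' {M : D} [MonObj M] {Y' Y : D} (e : Y' ⟶ Y) :
    e ≫ (1 : Y ⟶ M) = 1 := by
  simp [Hom.one_def]

theorem comp_μ {M : D} [MonObj M] {Y : D} (x : Y ⟶ M ⊗ M) :
    x ≫ μ[M] = (x ≫ fst M M) * (x ≫ snd M M) := by
  rw [Hom.mul_def, ← comp_lift, lift_fst_snd, Category.comp_id]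

/-- postcomposition with a homomorphism -/
def post {M N : D} [MonObj M] [MonObj N] (u : M ⟶ N) [IsMonHom u] (Y : D) :
    (Y ⟶ M) →* (Y ⟶ N) where
  toFun a := a ≫ u
  map_one' := by simp [Hom.one_def]
  map_mul' a b := by simp [Hom.mul_def]

theorem post_apply {M N : D} [MonObj M] [MonObj N] (u : M ⟶ N) [IsMonHom u] {Y : D} (a : Y ⟶ M) :
    post u Y a = a ≫ u := rfl

theorem comp_rmul {H G : D} [MonObj G] (u : H ⟶ G) {Y : D} (x : Y ⟶ G ⊗ H) :
    x ≫ (G ◁ u) ≫ μ[G] = (x ≫ fst G H) * ((x ≫ snd G H) ≫ u) := by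
  rw [← Category.assoc, comp_μ]
  simp

theorem comp_rmul' {H G : D} [MonObj G] (u : H ⟶ G) {Y : D} (x : Y ⟶ G ⊗ H) :
    (x ≫ (G ◁ u)) ≫ μ[G] = (x ≫ fst G H) * ((x ≫ snd G H) ≫ u) := by
  rw [Category.assoc, comp_rmul]

end hom

variable [CartesianMonoidalCategory 𝒮]

section quot

variable [HasPullbacks 𝒮] [HasCoequalizers 𝒮] [ToposLike 𝒮]

variable {H G : 𝒮} [GrpObj H] [GrpObj G] (u : H ⟶ G) [Mono u] [IsMonHom u]

/-- the right translation relation of a subgroup sheaf is an equivalence relation -/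
theorem isEquivalenceRelation :
    IsEquivalenceRelation (fst G H) ((G ◁ u) ≫ μ[G]) := by
  refine ⟨⟨{
    right_cancellation := ?_
    r := lift (𝟙 G) 1
    reflexivity₁ := by simp
    reflexivity₂ := ?_
    s := lift (fst G H * (snd G H ≫ u)) (snd G H)⁻¹
    symmetry₁ := ?_
    symmetry₂ := ?_
    c := PullbackCone.mk (pullback.fst ((G ◁ u) ≫ μ[G]) (fst G H))
      (pullback.snd ((G ◁ u) ≫ μ[G]) (fst G H)) pullback.condition
    isLimit := pullbackIsPullback _ _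
    t := lift (pullback.fst ((G ◁ u) ≫ μ[G]) (fst G H) ≫ fst G H)
      ((pullback.fst ((G ◁ u) ≫ μ[G]) (fst G H) ≫ snd G H) *
        (pullback.snd ((G ◁ u) ≫ μ[G]) (fst G H) ≫ snd G H))
    transitivity₁ := by simp
    transitivity₂ := ?_ }⟩⟩
  · intro Y a b h₁ h₂
    rw [comp_rmul, comp_rmul, h₁] at h₂
    have := (cancel_mono u).1 (mul_left_cancel h₂)
    ext <;> assumption
  · rw [comp_rmul]
    simp only [lift_fst, lift_snd, ← post_apply u, map_one, _root_.mul_one]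
  · rw [lift_fst, ← Category.id_comp ((G ◁ u) ≫ μ[G]), comp_rmul, Category.id_comp, Category.id_comp]
  · rw [comp_rmul, lift_fst, lift_snd]
    simp only [← post_apply u, map_inv, mul_inv_cancel_right]
  · show lift (pullback.fst ((G ◁ u) ≫ μ[G]) (fst G H) ≫ fst G H)
        ((pullback.fst ((G ◁ u) ≫ μ[G]) (fst G H) ≫ snd G H) *
          (pullback.snd ((G ◁ u) ≫ μ[G]) (fst G H) ≫ snd G H)) ≫ (G ◁ u) ≫ μ[G] =
      pullback.snd ((G ◁ u) ≫ μ[G]) (fst G H) ≫ (G ◁ u) ≫ μ[G]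
    rw [comp_rmul, comp_rmul, lift_fst, lift_snd, ← post_apply u, map_mul, post_apply, post_apply,
      ← _root_.mul_assoc, ← comp_rmul, pullback.condition]

/-- points of the quotient sheaf: equal iff they differ by the subgroup -/
theorem π_eq_iff {Y : 𝒮} (a b : Y ⟶ G) :
    a ≫ coequalizer.π (fst G H) ((G ◁ u) ≫ μ[G]) = b ≫ coequalizer.π (fst G H) ((G ◁ u) ≫ μ[G]) ↔
      ∃ h : Y ⟶ H, b = a * (h ≫ u) := by
  constructor
  · intro h
    have := isEquivalenceRelation u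
    obtain ⟨r, h₁, h₂⟩ := ToposLike.exists_lift_of_coequalizer (fst G H) ((G ◁ u) ≫ μ[G]) Y a b h
    refine ⟨r ≫ snd G H, ?_⟩
    rw [← h₂, comp_rmul, h₁]
  · rintro ⟨h, rfl⟩
    have := congrArg (lift a h ≫ ·) (coequalizer.condition (fst G H) ((G ◁ u) ≫ μ[G]))
    simp only [← Category.assoc, lift_fst] at this
    rw [this, Category.assoc (lift a h), comp_rmul, lift_fst, lift_snd]

end quot

end Groth.Agent.ShfQuot.Generic
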