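import Mathlib.CategoryTheory.Sites.CartesianMonoidal
import Mathlib.CategoryTheory.Sites.RegularEpi
import Mathlib.CategoryTheory.Sites.LocallySurjective
import Mathlib.CategoryTheory.Limits.Types.Pullbacks
import Groth.Agent.ShfQuot.Generic
import Groth.Agent.S5217

universe w v₁ u₁

open CategoryTheory CategoryTheory.Limits

namespace Groth.Agent.ShfQuot.Sheaf

variable {C : Type u₁} [Category.{v₁} C] {J : GrothendieckTopology C} [HasSheafify J (Type w)]

instance : Generic.ToposLike (Sheaf J (Type w)) where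
  effectiveEpi f _ := (isRegularEpi_iff_effectiveEpi f).1 (IsRegularEpiCategory.regularEpiOfEpi f)
  epi_of_isPullback {P A Q B i₁ f' π i₂} hsq _ := by
    have hπ : Sheaf.IsLocallySurjective π := (Sheaf.isLocallySurjective_iff_epi π).2 inferInstance
    refine (Sheaf.isLocallySurjective_iff_epi f').1 ⟨fun {U} x => J.superset_covering ?_
      (Presheaf.imageSieve_mem J π.hom (i₂.hom.app _ x))⟩
    intro V g ⟨s, hs⟩
    let G := sheafToPresheaf J (Type w) ⋙ (evaluation Cᵒᵖ (Type w)).obj (Opposite.op V)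
    have hs' : π.hom.app (Opposite.op V) s =
        i₂.hom.app (Opposite.op V) (Q.obj.map g.op x) :=
      hs.trans (NatTrans.naturality_apply i₂.hom g.op x).symm
    obtain ⟨z, hz₁, hz₂⟩ := ((Types.isPullback_iff _ _ _ _).1 (hsq.map G)).2.2
      s (Q.obj.map g.op x) hs'
    exact ⟨z, hz₂⟩
  exists_lift_of_coequalizer p₁ p₂ _ Y a b h := by
    obtain ⟨⟨e⟩⟩ := Groth.Agent.S5217.result J p₁ p₂
    have h' : a ≫ e.π = b ≫ e.π := by
      have := congrArg (· ≫ coequalizer.desc e.π e.isKernelPair.w) h
      simpa using this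
    exact ⟨e.isKernelPair.lift a b h', e.isKernelPair.lift_fst a b h', e.isKernelPair.lift_snd a b h'⟩

end Groth.Agent.ShfQuot.Sheaf
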