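import Groth.Agent.ShfQuot.Generic
import Mathlib.Tactic.Group

universe v u

open CategoryTheory CategoryTheory.Limits MonoidalCategory
open MonObj CartesianMonoidalCategory SemiCartesianMonoidalCategory
open Groth.Agent.ShfQuot.Generic

namespace Groth.Agent.ShfQuot.Quot

variable {𝒮 : Type u} [Category.{v} 𝒮] [CartesianMonoidalCategory 𝒮]
  [HasPullbacks 𝒮] [HasCoequalizers 𝒮] [ToposLike 𝒮]

theorem existsUnique_act {H G : 𝒮} [GrpObj H] [GrpObj G] (u : H ⟶ G) [Mono u] [IsMonHom u] :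
    ∃! act : G ⊗ coequalizer (fst G H) ((G ◁ u) ≫ μ[G]) ⟶ coequalizer (fst G H) ((G ◁ u) ≫ μ[G]),
      (η[G] ▷ coequalizer (fst G H) ((G ◁ u) ≫ μ[G])) ≫ act =
          (λ_ (coequalizer (fst G H) ((G ◁ u) ≫ μ[G]))).hom ∧
        (μ[G] ▷ coequalizer (fst G H) ((G ◁ u) ≫ μ[G])) ≫ act =
          (α_ G G (coequalizer (fst G H) ((G ◁ u) ≫ μ[G]))).hom ≫ (G ◁ act) ≫ act ∧
        μ[G] ≫ coequalizer.π (fst G H) ((G ◁ u) ≫ μ[G]) =
          (G ◁ coequalizer.π (fst G H) ((G ◁ u) ≫ μ[G])) ≫ act := by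
  let π := coequalizer.π (fst G H) ((G ◁ u) ≫ μ[G])
  have := epi_whiskerLeft G π
  have := epi_whiskerLeft (𝟙_ 𝒮) π
  have := epi_whiskerLeft (G ⊗ G) π
  let act := desc (G ◁ π) (μ[G] ≫ π) (fun Y a b h => by
    have h1 : a ≫ fst G G = b ≫ fst G G := by simpa using congrArg (· ≫ fst G _) h
    have h2 : (a ≫ snd G G) ≫ π = (b ≫ snd G G) ≫ π := by simpa using congrArg (· ≫ snd G _) h
    obtain ⟨k, hk⟩ := (π_eq_iff u _ _).1 h2
    rw [← Category.assoc a, ← Category.assoc b, comp_μ a, comp_μ b]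
    exact (π_eq_iff u _ _).2 ⟨k, by rw [hk, h1, _root_.mul_assoc]⟩)
  have hact : (G ◁ π) ≫ act = μ[G] ≫ π := fac _ _ _
  refine ⟨act, ⟨?_, ?_, hact.symm⟩, ?_⟩
  · rw [← cancel_epi (𝟙_ 𝒮 ◁ π), ← Category.assoc, whisker_exchange, Category.assoc, hact,
      ← Category.assoc, MonObj.one_mul, leftUnitor_naturality]
  · rw [← cancel_epi ((G ⊗ G) ◁ π), ← Category.assoc, whisker_exchange, Category.assoc, hact,
      associator_naturality_right_assoc, ← whiskerLeft_comp_assoc, hact, whiskerLeft_comp,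
      Category.assoc, hact, MonObj.mul_assoc_assoc]
  · rintro a' ⟨-, -, h⟩
    rw [← cancel_epi (G ◁ π), hact]
    exact h.symm

theorem mul_compat {H G : 𝒮} [GrpObj H] [GrpObj G] (u : H ⟶ G) [Mono u] [IsMonHom u]
    (hn : ∀ (Y : 𝒮) (g : Y ⟶ G) (h : Y ⟶ H), ∃ h' : Y ⟶ H, g * (h ≫ u) * g⁻¹ = h' ≫ u)
    {Y : 𝒮} (a a' b b' : Y ⟶ G)
    (ha : a ≫ coequalizer.π (fst G H) ((G ◁ u) ≫ μ[G]) = a' ≫ coequalizer.π (fst G H) ((G ◁ u) ≫ μ[G]))
    (hb : b ≫ coequalizer.π (fst G H) ((G ◁ u) ≫ μ[G]) = b' ≫ coequalizer.π (fst G H) ((G ◁ u) ≫ μ[G])) :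
    (a * b) ≫ coequalizer.π (fst G H) ((G ◁ u) ≫ μ[G]) =
      (a' * b') ≫ coequalizer.π (fst G H) ((G ◁ u) ≫ μ[G]) ∧
    a⁻¹ ≫ coequalizer.π (fst G H) ((G ◁ u) ≫ μ[G]) =
      a'⁻¹ ≫ coequalizer.π (fst G H) ((G ◁ u) ≫ μ[G]) := by
  obtain ⟨h, rfl⟩ := (π_eq_iff u _ _).1 ha
  obtain ⟨k, rfl⟩ := (π_eq_iff u _ _).1 hb
  obtain ⟨h', hh'⟩ := hn Y b⁻¹ h
  obtain ⟨h'', hh''⟩ := hn Y a h⁻¹
  constructor
  · refine (π_eq_iff u _ _).2 ⟨h' * k, ?_⟩
    rw [← post_apply u (h' * k), map_mul, post_apply, post_apply, ← hh']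
    group
  · refine (π_eq_iff u _ _).2 ⟨h'', ?_⟩
    rw [← hh'', ← post_apply u h⁻¹, map_inv, post_apply]
    group

theorem existsUnique_grpObj {H G : 𝒮} [GrpObj H] [GrpObj G] (u : H ⟶ G) [Mono u] [IsMonHom u]
    (hn : ∀ (Y : 𝒮) (g : Y ⟶ G) (h : Y ⟶ H), ∃ h' : Y ⟶ H, g * (h ≫ u) * g⁻¹ = h' ≫ u) :
    ∃! str : GrpObj (coequalizer (fst G H) ((G ◁ u) ≫ μ[G])),
      @IsMonHom 𝒮 _ _ G (coequalizer (fst G H) ((G ◁ u) ≫ μ[G])) _ str.toMonObj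
        (coequalizer.π (fst G H) ((G ◁ u) ≫ μ[G])) := by
  let Q := coequalizer (fst G H) ((G ◁ u) ≫ μ[G])
  let π : G ⟶ Q := coequalizer.π (fst G H) ((G ◁ u) ≫ μ[G])
  have hππ := epi_tensorHom π π
  have := epi_whiskerLeft (𝟙_ 𝒮) π
  have := epi_whiskerRight π (𝟙_ 𝒮)
  have := epi_tensorHom (π ⊗ₘ π) π
  let m : Q ⊗ Q ⟶ Q := desc (π ⊗ₘ π) (μ[G] ≫ π) (fun Y a b h => by
    have h1 : (a ≫ fst G G) ≫ π = (b ≫ fst G G) ≫ π := by simpa using congrArg (· ≫ fst _ _) h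
    have h2 : (a ≫ snd G G) ≫ π = (b ≫ snd G G) ≫ π := by simpa using congrArg (· ≫ snd _ _) h
    rw [← Category.assoc a, ← Category.assoc b, comp_μ a, comp_μ b]
    exact (mul_compat u hn _ _ _ _ h1 h2).1)
  have hm : (π ⊗ₘ π) ≫ m = μ[G] ≫ π := fac _ _ _
  let i : Q ⟶ Q := desc π (ι[G] ≫ π) (fun Y a b h => by
    rw [← Category.assoc, ← Category.assoc, ← Hom.inv_def, ← Hom.inv_def]
    exact (mul_compat u hn a b a b h h).2)
  have hi : π ≫ i = ι[G] ≫ π := fac _ _ _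
  let str : GrpObj Q :=
    { one := η[G] ≫ π
      mul := m
      one_mul := by
        have e : (𝟙_ 𝒮 ◁ π) ≫ ((η[G] ≫ π) ▷ Q) = (η[G] ▷ G) ≫ (π ⊗ₘ π) := by
          rw [← id_tensorHom, ← tensorHom_id, tensorHom_comp_tensorHom, ← tensorHom_id,
            tensorHom_comp_tensorHom]
          simp
        rw [← cancel_epi (𝟙_ 𝒮 ◁ π), reassoc_of% e, hm, MonObj.one_mul_assoc, leftUnitor_naturality]
      mul_one := by
        have e : (π ▷ 𝟙_ 𝒮) ≫ (Q ◁ (η[G] ≫ π)) = (G ◁ η[G]) ≫ (π ⊗ₘ π) := by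
          rw [← id_tensorHom, ← tensorHom_id, tensorHom_comp_tensorHom, ← id_tensorHom,
            tensorHom_comp_tensorHom]
          simp
        rw [← cancel_epi (π ▷ 𝟙_ 𝒮), reassoc_of% e, hm, MonObj.mul_one_assoc, rightUnitor_naturality]
      mul_assoc := by
        have e1 : ((π ⊗ₘ π) ⊗ₘ π) ≫ (m ▷ Q) = (μ[G] ▷ G) ≫ (π ⊗ₘ π) := by
          rw [← tensorHom_id, tensorHom_comp_tensorHom, hm, ← tensorHom_id, tensorHom_comp_tensorHom]
          simp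
        have e2 : (π ⊗ₘ (π ⊗ₘ π)) ≫ (Q ◁ m) = (G ◁ μ[G]) ≫ (π ⊗ₘ π) := by
          rw [← id_tensorHom, tensorHom_comp_tensorHom, hm, ← id_tensorHom, tensorHom_comp_tensorHom]
          simp
        rw [← cancel_epi ((π ⊗ₘ π) ⊗ₘ π), reassoc_of% e1, hm, associator_naturality_assoc,
          reassoc_of% e2, hm, MonObj.mul_assoc_assoc]
      inv := i
      left_inv := by
        have e : π ≫ lift i (𝟙 Q) = lift ι[G] (𝟙 G) ≫ (π ⊗ₘ π) := by
          ext <;> simp [hi]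
        show lift i (𝟙 Q) ≫ m = toUnit _ ≫ η[G] ≫ π
        rw [← cancel_epi π, reassoc_of% e, hm, GrpObj.left_inv_assoc, ← Category.assoc π, comp_toUnit]
      right_inv := by
        have e : π ≫ lift (𝟙 Q) i = lift (𝟙 G) ι[G] ≫ (π ⊗ₘ π) := by
          ext <;> simp [hi]
        show lift (𝟙 Q) i ≫ m = toUnit _ ≫ η[G] ≫ π
        rw [← cancel_epi π, reassoc_of% e, hm, GrpObj.right_inv_assoc, ← Category.assoc π, comp_toUnit] }
  refine ⟨str, @IsMonHom.mk 𝒮 _ _ G Q _ str.toMonObj π rfl hm.symm, ?_⟩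
  intro str' hstr'
  apply GrpObj.ext
  apply MonObj.ext
  rw [← cancel_epi (π ⊗ₘ π)]
  have h' := hstr'.mul_hom
  exact h'.symm.trans hm.symm

theorem isKernelPair_second_iso {H L G : 𝒮} [GrpObj H] [GrpObj L] [GrpObj G] (u : H ⟶ G)
    (l : L ⟶ G) [Mono u] [Mono l] [IsMonHom u] [IsMonHom l] :
    IsKernelPair (l ≫ coequalizer.π (fst G H) ((G ◁ u) ≫ μ[G])) (fst L (pullback u l))
      ((L ◁ pullback.snd u l) ≫ μ[L]) := by
  have key : ∀ {Y : 𝒮} (x : Y ⟶ L ⊗ pullback u l),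
      x ≫ (L ◁ pullback.snd u l) ≫ μ[L] = (x ≫ fst _ _) * (x ≫ snd _ _ ≫ pullback.snd u l) := by
    intro Y x
    rw [← Category.assoc, comp_μ]
    simp
  have hex : ∀ s : PullbackCone (l ≫ coequalizer.π (fst G H) ((G ◁ u) ≫ μ[G]))
      (l ≫ coequalizer.π (fst G H) ((G ◁ u) ≫ μ[G])),
      ∃ w : s.pt ⟶ H, w ≫ u = (s.fst⁻¹ * s.snd) ≫ l := by
    intro s
    obtain ⟨w, hw⟩ := (π_eq_iff u (s.fst ≫ l) (s.snd ≫ l)).1
      (((Category.assoc _ _ _).trans s.condition).trans (Category.assoc _ _ _).symm)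
    refine ⟨w, ?_⟩
    rw [← post_apply l, map_mul, map_inv, post_apply, post_apply]
    exact eq_inv_mul_of_mul_eq hw.symm
  refine ⟨⟨?_⟩, ⟨PullbackCone.IsLimit.mk _
    (fun s => lift s.fst (pullback.lift (hex s).choose _ (hex s).choose_spec)) ?_ ?_ ?_⟩⟩
  · have h := key (𝟙 (L ⊗ pullback u l))
    simp only [Category.id_comp] at h
    rw [h, ← Category.assoc (fst _ _), ← Category.assoc (fst _ _ * _), π_eq_iff]
    refine ⟨snd _ _ ≫ pullback.fst u l, ?_⟩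
    rw [← post_apply l, map_mul, post_apply, post_apply, Category.assoc, Category.assoc,
      pullback.condition]
  · intro s
    exact lift_fst _ _
  · intro s
    rw [key, lift_fst, lift_snd_assoc]
    erw [pullback.lift_snd]
    rw [mul_inv_cancel_left]
  · intro s m h₁ h₂
    rw [key] at h₂
    have h₁' : m ≫ fst _ _ = s.fst := h₁
    ext
    · simpa using h₁'
    · rw [← cancel_mono u]
      have h3 : m ≫ snd _ _ ≫ pullback.snd u l = s.fst⁻¹ * s.snd := by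
        rw [← h₂, h₁', inv_mul_cancel_left]
      simp only [Category.assoc, lift_snd, pullback.lift_fst_assoc]
      rw [(hex s).choose_spec, ← h3, pullback.condition, Category.assoc, Category.assoc]
    · have h3 : m ≫ snd _ _ ≫ pullback.snd u l = s.fst⁻¹ * s.snd := by
        rw [← h₂, h₁', inv_mul_cancel_left]
      simp only [Category.assoc, lift_snd]
      exact h3.trans (pullback.lift_snd _ _ _).symm

theorem third_iso {H K G : 𝒮} [GrpObj H] [GrpObj K] [GrpObj G] (h : H ⟶ K) (k : K ⟶ G)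
    [Mono h] [Mono k] [IsMonHom h] [IsMonHom k]
    (hn : ∀ (Y : 𝒮) (x : Y ⟶ K) (y : Y ⟶ H), ∃ y' : Y ⟶ H, x * (y ≫ h) * x⁻¹ = y' ≫ h)
    (act : coequalizer (fst G H) ((G ◁ (h ≫ k)) ≫ μ[G]) ⊗ coequalizer (fst K H) ((K ◁ h) ≫ μ[K]) ⟶
      coequalizer (fst G H) ((G ◁ (h ≫ k)) ≫ μ[G]))
    (hact : (coequalizer.π (fst G H) ((G ◁ (h ≫ k)) ≫ μ[G]) ⊗ₘ
        coequalizer.π (fst K H) ((K ◁ h) ≫ μ[K])) ≫ act =
      (G ◁ k) ≫ μ[G] ≫ coequalizer.π (fst G H) ((G ◁ (h ≫ k)) ≫ μ[G]))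
    (qbar : coequalizer (fst G H) ((G ◁ (h ≫ k)) ≫ μ[G]) ⟶
      coequalizer (fst G K) ((G ◁ k) ≫ μ[G]))
    (hq : coequalizer.π (fst G H) ((G ◁ (h ≫ k)) ≫ μ[G]) ≫ qbar =
      coequalizer.π (fst G K) ((G ◁ k) ≫ μ[G])) :
    Mono (lift act (fst _ _)) ∧
      ∃ wq : fst _ _ ≫ qbar = act ≫ qbar, Nonempty (IsColimit (Cofork.ofπ qbar wq)) := by
  let πG := coequalizer.π (fst G H) ((G ◁ (h ≫ k)) ≫ μ[G])
  let πK := coequalizer.π (fst K H) ((K ◁ h) ≫ μ[K])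
  have hππ := epi_tensorHom πG πK
  constructor
  · constructor
    intro Y y₁ y₂ e
    obtain ⟨Y₁, e₁, a₁, he₁, ha₁⟩ := exists_epi_lift (πG ⊗ₘ πK) y₁
    obtain ⟨Y₂, e₂, a₂, he₂, ha₂⟩ := exists_epi_lift (πG ⊗ₘ πK) (e₁ ≫ y₂)
    rw [← cancel_epi e₁, ← cancel_epi e₂, ha₂, ha₁, ← Category.assoc]
    let x := e₂ ≫ a₁
    have hx : x ≫ (πG ⊗ₘ πK) = e₂ ≫ e₁ ≫ y₁ := by simp [x, ha₁]
    have hfst : (x ≫ fst _ _) ≫ πG = (a₂ ≫ fst _ _) ≫ πG := by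
      have := congrArg (e₂ ≫ e₁ ≫ ·) (congrArg (· ≫ snd _ _) e)
      simp only [Category.assoc, lift_snd] at this
      rw [reassoc_of% ha₂, ← reassoc_of% hx] at this
      simpa using this
    have hact' : ((x ≫ fst _ _) * ((x ≫ snd _ _) ≫ k)) ≫ πG =
        ((a₂ ≫ fst _ _) * ((a₂ ≫ snd _ _) ≫ k)) ≫ πG := by
      have := congrArg (e₂ ≫ e₁ ≫ ·) (congrArg (· ≫ fst _ _) e)
      simp only [Category.assoc, lift_fst] at this
      rw [reassoc_of% ha₂, ← reassoc_of% hx, hact] at this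
      rw [← comp_rmul, ← comp_rmul]
      simpa only [Category.assoc] using this
    obtain ⟨h₁, hh₁⟩ := (π_eq_iff (h ≫ k) _ _).1 hfst
    obtain ⟨h₂, hh₂⟩ := (π_eq_iff (h ≫ k) _ _).1 hact'
    obtain ⟨h₃, hh₃⟩ := hn _ (x ≫ snd _ _)⁻¹ h₁⁻¹
    have hsnd : (x ≫ snd _ _) ≫ πK = (a₂ ≫ snd _ _) ≫ πK := by
      refine (π_eq_iff h _ _).2 ⟨h₃ * h₂, ?_⟩
      rw [← post_apply h (h₃ * h₂), map_mul, post_apply, post_apply, ← hh₃]
      rw [← cancel_mono k, ← post_apply h h₁⁻¹, map_inv, post_apply]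
      simp only [← post_apply k, map_mul, map_inv]
      simp only [post_apply, Category.assoc] at hh₁ hh₂ ⊢
      rw [hh₁, _root_.mul_assoc, _root_.mul_assoc, mul_left_cancel_iff] at hh₂
      rw [eq_inv_mul_of_mul_eq hh₂]
      group
    show x ≫ (πG ⊗ₘ πK) = a₂ ≫ (πG ⊗ₘ πK)
    ext
    · simpa using hfst
    · simpa using hsnd
  · have wq : fst _ _ ≫ qbar = act ≫ qbar := by
      rw [← cancel_epi (πG ⊗ₘ πK), tensorHom_fst_assoc, hq, reassoc_of% hact, hq]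
      have := coequalizer.condition (fst G K) ((G ◁ k) ≫ μ[G])
      simpa using this
    refine ⟨wq, ⟨Cofork.IsColimit.mk _ (fun s => coequalizer.desc (πG ≫ s.π) ?_) (fun s => ?_)
      (fun s m hm => ?_)⟩⟩
    · have := congrArg ((πG ⊗ₘ πK) ≫ ·) s.condition
      rw [tensorHom_fst_assoc, reassoc_of% hact] at this
      simpa using this
    · rw [← cancel_epi πG]
      simp only [Cofork.π_ofπ]
      rw [reassoc_of% hq, coequalizer.π_desc]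
    · refine coequalizer.hom_ext (f := fst G K) (g := (G ◁ k) ≫ μ[G]) ?_
      rw [coequalizer.π_desc, ← hq, Category.assoc]
      simp only [Cofork.π_ofπ] at hm
      rw [hm]

end Groth.Agent.ShfQuot.Quot
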