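import Groth.Agent.ShfQuot.Generic
import Mathlib.CategoryTheory.Subobject.Lattice
import Mathlib.CategoryTheory.Subobject.FactorThru
import Mathlib.Tactic.Group

universe v u

open CategoryTheory CategoryTheory.Limits MonoidalCategory
open MonObj CartesianMonoidalCategory SemiCartesianMonoidalCategory
open Groth.Agent.ShfQuot.Generic

namespace Groth.Agent.ShfQuot.Sub

variable {𝒮 : Type u} [Category.{v} 𝒮] [HasPullbacks 𝒮] [HasCoequalizers 𝒮]

theorem factors_mk' {B : 𝒮} (K : Subobject B) {Y : 𝒮} {y : Y ⟶ B} (g : Y ⟶ (K : 𝒮))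
    (hg : g ≫ K.arrow = y) : K.Factors y :=
  hg ▸ Subobject.factors_comp_arrow g

theorem pullback_factors_iff {A B : 𝒮} (f : A ⟶ B) (K : Subobject B) {Y : 𝒮} (a : Y ⟶ A) :
    ((Subobject.pullback f).obj K).Factors a ↔ K.Factors (a ≫ f) := by
  have hp := Subobject.isPullback f K
  constructor
  · intro h
    refine factors_mk' _ (Subobject.factorThru _ a h ≫ Subobject.pullbackπ f K) ?_
    rw [Category.assoc, hp.w, Subobject.factorThru_arrow_assoc]
  · intro h
    refine factors_mk' _ (hp.lift (K.factorThru _ h) a (by simp)) ?_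
    exact hp.lift_snd _ _ _

theorem ext_factors {B : 𝒮} {K₁ K₂ : Subobject B}
    (h : ∀ (Y : 𝒮) (x : Y ⟶ B), K₁.Factors x ↔ K₂.Factors x) : K₁ = K₂ := by
  refine le_antisymm ?_ ?_
  · exact Subobject.le_of_comm _ (K₂.factorThru_arrow _ ((h _ _).1 (K₁.factors_self)))
  · exact Subobject.le_of_comm _ (K₁.factorThru_arrow _ ((h _ _).2 (K₂.factors_self)))

variable [ToposLike 𝒮]

theorem factors_of_epi {B : 𝒮} (K : Subobject B) {Y Y' : 𝒮} (e : Y' ⟶ Y) [Epi e] (y : Y ⟶ B)
    (h : K.Factors (e ≫ y)) : K.Factors y := by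
  refine factors_mk' K (desc e (K.factorThru _ h) (fun Z a b hab => ?_)) ?_
  · rw [← cancel_mono K.arrow]
    simp [reassoc_of% hab]
  · rw [← cancel_epi e, fac_assoc, Subobject.factorThru_arrow]

theorem pullback_injective {A B : 𝒮} (f : A ⟶ B) [Epi f] :
    Function.Injective (Subobject.pullback f).obj := by
  intro K₁ K₂ h
  apply ext_factors
  intro Y y
  obtain ⟨Y', e, a, he, ha⟩ := exists_epi_lift f y
  have key : ∀ K : Subobject B, K.Factors y ↔ ((Subobject.pullback f).obj K).Factors a := by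
    intro K
    rw [pullback_factors_iff, ← ha]
    exact ⟨fun hy => Subobject.factors_of_factors_right e hy, factors_of_epi K e y⟩
  rw [key, key, h]

/-- image factorisation -/
theorem exists_image {A B : 𝒮} (f : A ⟶ B) :
    ∃ K : Subobject B, ∀ (Y : 𝒮) (y : Y ⟶ B), K.Factors y ↔
      ∃ (Y' : 𝒮) (e : Y' ⟶ Y) (a : Y' ⟶ A), Epi e ∧ e ≫ y = a ≫ f := by
  let q := coequalizer.π (pullback.fst f f) (pullback.snd f f)
  let j := coequalizer.desc f pullback.condition
  have : Mono j := by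
    refine ⟨fun {Y} y₁ y₂ h => ?_⟩
    obtain ⟨Y₁, e₁, a₁, he₁, ha₁⟩ := exists_epi_lift q y₁
    obtain ⟨Y₂, e₂, a₂, he₂, ha₂⟩ := exists_epi_lift q (e₁ ≫ y₂)
    rw [← cancel_epi e₁, ← cancel_epi e₂, ha₂, ha₁]
    have hf : (e₂ ≫ a₁) ≫ f = a₂ ≫ f := by
      have e : e₂ ≫ e₁ ≫ y₁ ≫ j = e₂ ≫ e₁ ≫ y₂ ≫ j := by rw [h]
      rw [reassoc_of% ha₁, reassoc_of% ha₂] at e
      simpa [q, j] using e
    have := congrArg (pullback.lift _ _ hf ≫ ·) (coequalizer.condition (pullback.fst f f) (pullback.snd f f))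
    rw [pullback.lift_fst_assoc, pullback.lift_snd_assoc, Category.assoc] at this
    exact this
  refine ⟨Subobject.mk j, fun Y y => ?_⟩
  rw [Subobject.mk_factors_iff]
  constructor
  · rintro ⟨z, rfl⟩
    obtain ⟨Y', e, a, he, ha⟩ := exists_epi_lift q z
    refine ⟨Y', e, a, he, ?_⟩
    exact ((Category.assoc e z j).symm.trans (congrArg (· ≫ j) ha)).trans
      ((Category.assoc a q j).trans (congrArg (a ≫ ·) (coequalizer.π_desc _ _)))
  · rintro ⟨Y', e, a, he, ha⟩
    have : (Subobject.mk j).Factors (e ≫ y) := by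
      rw [Subobject.mk_factors_iff]
      exact ⟨a ≫ q, by simp [q, j, ha]⟩
    exact (Subobject.mk_factors_iff _ _).1 (factors_of_epi _ e y this)

theorem range_pullback {A B R : 𝒮} (f : A ⟶ B) [Epi f] (p₁ p₂ : R ⟶ A) (hp : IsKernelPair f p₁ p₂) :
    Set.range (Subobject.pullback f).obj =
      {Y : Subobject A | (Subobject.pullback p₁).obj Y = (Subobject.pullback p₂).obj Y} := by
  ext S
  constructor
  · rintro ⟨K, rfl⟩
    apply ext_factors
    intro Y r
    simp only [pullback_factors_iff, Category.assoc, hp.w]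
  · intro hS
    obtain ⟨K, hK⟩ := exists_image (S.arrow ≫ f)
    refine ⟨K, ext_factors fun Y a => ?_⟩
    rw [pullback_factors_iff, hK]
    constructor
    · rintro ⟨Y', e, b, he, hb⟩
      have hw : (b ≫ S.arrow) ≫ f = (e ≫ a) ≫ f := by simpa using hb.symm
      have h1 : ((Subobject.pullback p₁).obj S).Factors (hp.lift _ _ hw) := by
        rw [pullback_factors_iff, hp.lift_fst]
        exact Subobject.factors_comp_arrow b
      rw [(hS : _ = _), pullback_factors_iff, hp.lift_snd] at h1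
      exact factors_of_epi S e a h1
    · intro h
      exact ⟨Y, 𝟙 Y, S.factorThru a h, inferInstance, by simp⟩

theorem mono_quotient {R X Y B : 𝒮} {p₁ p₂ : R ⟶ X} {π : X ⟶ B} (hp : IsKernelPair π p₁ p₂)
    (i : Y ⟶ X)
    (g : coequalizer (pullback.fst (pullback.fst p₁ i ≫ p₂) i ≫ pullback.snd p₁ i)
      (pullback.snd (pullback.fst p₁ i ≫ p₂) i) ⟶ B)
    (hg : coequalizer.π _ _ ≫ g = i ≫ π) : Mono g := by
  refine ⟨fun {Z} y₁ y₂ h => ?_⟩
  let q := coequalizer.π (pullback.fst (pullback.fst p₁ i ≫ p₂) i ≫ pullback.snd p₁ i)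
    (pullback.snd (pullback.fst p₁ i ≫ p₂) i)
  obtain ⟨Y₁, e₁, a₁, he₁, ha₁⟩ := exists_epi_lift q y₁
  obtain ⟨Y₂, e₂, a₂, he₂, ha₂⟩ := exists_epi_lift q (e₁ ≫ y₂)
  rw [← cancel_epi e₁, ← cancel_epi e₂, ha₂, ha₁]
  have hw : ((e₂ ≫ a₁) ≫ i) ≫ π = (a₂ ≫ i) ≫ π := by
    have e : e₂ ≫ e₁ ≫ y₁ ≫ g = e₂ ≫ e₁ ≫ y₂ ≫ g := by rw [h]
    rw [reassoc_of% ha₁, reassoc_of% ha₂, hg] at e
    simpa using e
  obtain ⟨t, ht₁, ht₂⟩ : ∃ t : Y₂ ⟶ pullback (pullback.fst p₁ i ≫ p₂) i,
      t ≫ pullback.fst (pullback.fst p₁ i ≫ p₂) i ≫ pullback.snd p₁ i = e₂ ≫ a₁ ∧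
      t ≫ pullback.snd (pullback.fst p₁ i ≫ p₂) i = a₂ := by
    refine ⟨pullback.lift (pullback.lift (hp.lift _ _ hw) (e₂ ≫ a₁) (hp.lift_fst _ _ hw)) a₂ ?_,
      ?_, pullback.lift_snd _ _ _⟩
    · simp only [← Category.assoc, pullback.lift_fst, hp.lift_snd]
    · rw [pullback.lift_fst_assoc, pullback.lift_snd]
  rw [← Category.assoc, ← ht₁, ← ht₂, Category.assoc, Category.assoc]
  have hc : pullback.fst (pullback.fst p₁ i ≫ p₂) i ≫ pullback.snd p₁ i ≫ q =
      pullback.snd (pullback.fst p₁ i ≫ p₂) i ≫ q :=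
    (Category.assoc _ _ _).symm.trans
      (coequalizer.condition (pullback.fst (pullback.fst p₁ i ≫ p₂) i ≫ pullback.snd p₁ i)
        (pullback.snd (pullback.fst p₁ i ≫ p₂) i))
  exact (congrArg (t ≫ ·) hc).trans (Category.assoc _ _ _).symm

section grp

variable [CartesianMonoidalCategory 𝒮] {G : 𝒮} [GrpObj G]

omit [HasPullbacks 𝒮] [HasCoequalizers 𝒮] [ToposLike 𝒮] in
/-- a subobject is a subgroup iff its points form subgroups -/
theorem isSubgroup_iff (K : Subobject G) :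
    (∃ str : GrpObj (K : 𝒮), @IsMonHom 𝒮 _ _ _ _ str.toMonObj _ K.arrow) ↔
      (∀ Y : 𝒮, K.Factors (1 : Y ⟶ G)) ∧
      (∀ (Y : 𝒮) (x y : Y ⟶ G), K.Factors x → K.Factors y → K.Factors (x * y)) ∧
      ∀ (Y : 𝒮) (x : Y ⟶ G), K.Factors x → K.Factors x⁻¹ := by
  constructor
  · rintro ⟨str, hstr⟩
    letI := str
    haveI := hstr
    refine ⟨fun Y => ?_, fun Y x y hx hy => ?_, fun Y x hx => ?_⟩
    · rw [← map_one (post K.arrow Y)]
      exact Subobject.factors_comp_arrow _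
    · rw [← K.factorThru_arrow x hx, ← K.factorThru_arrow y hy, ← post_apply K.arrow,
        ← post_apply K.arrow, ← map_mul]
      exact Subobject.factors_comp_arrow _
    · rw [← K.factorThru_arrow x hx, ← post_apply K.arrow, ← map_inv]
      exact Subobject.factors_comp_arrow _
  · rintro ⟨h1, h2, h3⟩
    let K₀ : 𝒮 := (K : 𝒮)
    have hη : K.Factors η[G] := by
      have := h1 (𝟙_ 𝒮)
      rwa [Hom.one_def, toUnit_unique (toUnit _) (𝟙 _), Category.id_comp] at this
    have hμ : K.Factors ((fst K₀ K₀ ≫ K.arrow) * (snd K₀ K₀ ≫ K.arrow)) :=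
      h2 _ _ _ (Subobject.factors_comp_arrow _) (Subobject.factors_comp_arrow _)
    have hι : K.Factors (K.arrow⁻¹ : K₀ ⟶ G) := h3 _ _ K.factors_self
    let m := K.factorThru _ hμ
    let o := K.factorThru _ hη
    let i := K.factorThru _ hι
    have hm : ∀ {Y : 𝒮} (x : Y ⟶ K₀ ⊗ K₀), x ≫ m ≫ K.arrow =
        (x ≫ fst _ _ ≫ K.arrow) * (x ≫ snd _ _ ≫ K.arrow) := by
      intro Y x
      simp only [m, Subobject.factorThru_arrow]
      rw [comp_mul']
    let str : GrpObj K₀ :=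
      { one := o
        mul := m
        one_mul := by
          rw [← cancel_mono K.arrow, Category.assoc, hm]
          simp [o]
          rw [toUnit_unique (fst _ _) (toUnit _), ← Hom.one_def, _root_.one_mul, leftUnitor_hom]
        mul_one := by
          rw [← cancel_mono K.arrow, Category.assoc, hm]
          simp [o]
          rw [toUnit_unique (snd _ _) (toUnit _), ← Hom.one_def, _root_.mul_one, rightUnitor_hom]
        mul_assoc := by
          rw [← cancel_mono K.arrow, Category.assoc, Category.assoc, Category.assoc, hm,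
            reassoc_of% whiskerRight_fst m K₀, whiskerRight_snd_assoc, hm, hm]
          simp only [whiskerLeft_fst_assoc, whiskerLeft_snd_assoc]
          rw [hm, comp_mul']
          simp [_root_.mul_assoc, comp_mul']
        inv := i
        left_inv := by
          rw [← cancel_mono K.arrow, Category.assoc, hm]
          simp only [lift_fst_assoc, lift_snd_assoc, i, o, Subobject.factorThru_arrow, Category.id_comp,
            Category.assoc]
          rw [inv_mul_cancel, Hom.one_def]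
        right_inv := by
          rw [← cancel_mono K.arrow, Category.assoc, hm]
          simp only [lift_fst_assoc, lift_snd_assoc, i, o, Subobject.factorThru_arrow, Category.id_comp,
            Category.assoc]
          rw [mul_inv_cancel, Hom.one_def] }
    refine ⟨str, @IsMonHom.mk 𝒮 _ _ _ _ str.toMonObj _ K.arrow ?_ ?_⟩
    · show o ≫ K.arrow = _
      simp [o]
    · show m ≫ K.arrow = (K.arrow ⊗ₘ K.arrow) ≫ μ[G]
      rw [← Category.id_comp m, Category.assoc, hm, comp_μ]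
      simp
      rfl

omit [HasPullbacks 𝒮] [HasCoequalizers 𝒮] [ToposLike 𝒮] in
/-- normality in terms of points -/
theorem normal_iff (K : Subobject G) :
    (∀ (Y : 𝒮) (g : Y ⟶ G) (k : Y ⟶ (K : 𝒮)), ∃ k' : Y ⟶ (K : 𝒮),
        g * (k ≫ K.arrow) * g⁻¹ = k' ≫ K.arrow) ↔
      ∀ (Y : 𝒮) (g x : Y ⟶ G), K.Factors x → K.Factors (g * x * g⁻¹) := by
  constructor
  · intro h Y g x hx
    obtain ⟨k', hk'⟩ := h Y g (K.factorThru x hx)
    rw [Subobject.factorThru_arrow] at hk'
    rw [hk']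
    exact Subobject.factors_comp_arrow _
  · intro h Y g k
    exact ⟨K.factorThru _ (h Y g _ (Subobject.factors_comp_arrow k)),
      (Subobject.factorThru_arrow _ _ _).symm⟩

theorem correspondence {H : 𝒮} [GrpObj H] (u : H ⟶ G) [Mono u] [IsMonHom u]
    [GrpObj (coequalizer (fst G H) ((G ◁ u) ≫ μ[G]))]
    [IsMonHom (coequalizer.π (fst G H) ((G ◁ u) ≫ μ[G]))] :
    Set.BijOn (Subobject.pullback (coequalizer.π (fst G H) ((G ◁ u) ≫ μ[G]))).obj
        {K' : Subobject (coequalizer (fst G H) ((G ◁ u) ≫ μ[G])) |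
          ∃ str : GrpObj (K' : 𝒮), @IsMonHom 𝒮 _ _ _ _ str.toMonObj _ K'.arrow}
        {K : Subobject G | Subobject.mk u ≤ K ∧
          ∃ str : GrpObj (K : 𝒮), @IsMonHom 𝒮 _ _ _ _ str.toMonObj _ K.arrow} ∧
      ∀ K' : Subobject (coequalizer (fst G H) ((G ◁ u) ≫ μ[G])),
        ((∀ (Y : 𝒮) (g : Y ⟶ coequalizer (fst G H) ((G ◁ u) ≫ μ[G])) (k : Y ⟶ (K' : 𝒮)),
            ∃ k' : Y ⟶ (K' : 𝒮), g * (k ≫ K'.arrow) * g⁻¹ = k' ≫ K'.arrow) ↔
          (∀ (Y : 𝒮) (g : Y ⟶ G)
            (k : Y ⟶ ((Subobject.pullback (coequalizer.π (fst G H) ((G ◁ u) ≫ μ[G]))).obj K' : 𝒮)),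
            ∃ k' : Y ⟶ ((Subobject.pullback (coequalizer.π (fst G H) ((G ◁ u) ≫ μ[G]))).obj K' : 𝒮),
              g * (k ≫ ((Subobject.pullback (coequalizer.π (fst G H) ((G ◁ u) ≫ μ[G]))).obj K').arrow) * g⁻¹
                = k' ≫ ((Subobject.pullback (coequalizer.π (fst G H) ((G ◁ u) ≫ μ[G]))).obj K').arrow)) := by
  let π := coequalizer.π (fst G H) ((G ◁ u) ≫ μ[G])
  have hπ : ∀ {Y : 𝒮} (a : Y ⟶ G), a ≫ π = post π Y a := fun a => rfl
  refine ⟨⟨fun K' hK' => ?_, (pullback_injective π).injOn, fun K hK => ?_⟩, fun K' => ?_⟩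
  · obtain ⟨h1, h2, h3⟩ := (isSubgroup_iff K').1 hK'
    refine ⟨Subobject.mk_le_of_comm (Subobject.factorThru _ u ?_) (Subobject.factorThru_arrow _ _ _),
      (isSubgroup_iff _).2 ⟨fun Y => ?_, fun Y x y hx hy => ?_, fun Y x hx => ?_⟩⟩
    · rw [pullback_factors_iff]
      have : u ≫ π = (1 : H ⟶ G) ≫ π :=
        ((π_eq_iff u _ _).2 ⟨𝟙 H, by simp⟩).symm
      rw [this, hπ, map_one]
      exact h1 H
    · rw [pullback_factors_iff, hπ, map_one]
      exact h1 Y
    · rw [pullback_factors_iff] at hx hy ⊢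
      rw [hπ, map_mul]
      exact h2 _ _ _ hx hy
    · rw [pullback_factors_iff] at hx ⊢
      rw [hπ, map_inv]
      exact h3 _ _ hx
  · obtain ⟨huK, hsub⟩ := hK
    obtain ⟨h1, h2, h3⟩ := (isSubgroup_iff K).1 hsub
    obtain ⟨K', hK'⟩ := exists_image (K.arrow ≫ π)
    refine ⟨K', (isSubgroup_iff K').2 ⟨fun Y => ?_, fun Y x y hx hy => ?_, fun Y x hx => ?_⟩,
      ext_factors fun Y x => ?_⟩
    · refine (hK' _ _).2 ⟨Y, 𝟙 Y, K.factorThru _ (h1 Y), inferInstance, ?_⟩
      rw [Category.id_comp, Subobject.factorThru_arrow_assoc, hπ, map_one]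
    · obtain ⟨Y₁, e₁, a, he₁, ha⟩ := (hK' _ _).1 hx
      obtain ⟨Y₂, e₂, b, he₂, hb⟩ := (hK' _ _).1 (Subobject.factors_of_factors_right e₁ hy)
      refine (hK' _ _).2 ⟨Y₂, e₂ ≫ e₁, K.factorThru ((e₂ ≫ a ≫ K.arrow) * (b ≫ K.arrow))
        (h2 _ _ _ (by rw [← Category.assoc]; exact Subobject.factors_comp_arrow _)
          (Subobject.factors_comp_arrow _)), epi_comp _ _, ?_⟩
      rw [Subobject.factorThru_arrow_assoc, hπ, map_mul, ← hπ, ← hπ, comp_mul']
      simp only [Category.assoc]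
      rw [hb, ha]
    · obtain ⟨Y₁, e₁, a, he₁, ha⟩ := (hK' _ _).1 hx
      refine (hK' _ _).2 ⟨Y₁, e₁, K.factorThru (a ≫ K.arrow)⁻¹
        (h3 _ _ (Subobject.factors_comp_arrow _)), he₁, ?_⟩
      rw [Subobject.factorThru_arrow_assoc, hπ, map_inv, ← hπ, comp_inv', ha, Category.assoc]
    · rw [pullback_factors_iff, hK']
      constructor
      · rintro ⟨Y', e, a, he, ha⟩
        obtain ⟨h, hh⟩ := (π_eq_iff u (a ≫ K.arrow) (e ≫ x)).1 (by simpa using ha.symm)
        refine factors_of_epi K e x ?_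
        rw [hh]
        refine h2 _ _ _ (Subobject.factors_comp_arrow _) (Subobject.factors_of_factors_right h ?_)
        exact Subobject.factors_of_le u huK ((Subobject.mk_factors_iff u u).2 ⟨𝟙 H, Category.id_comp u⟩)
      · intro hx
        exact ⟨Y, 𝟙 Y, K.factorThru x hx, inferInstance, by simp [π]⟩
  · rw [normal_iff, normal_iff]
    constructor
    · intro h Y g x hx
      rw [pullback_factors_iff] at hx ⊢
      rw [hπ, map_mul, map_mul, map_inv]
      exact h _ _ _ hx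
    · intro h Y g x hx
      obtain ⟨Y₁, e₁, g₀, he₁, hg₀⟩ := exists_epi_lift π g
      obtain ⟨Y₂, e₂, x₀, he₂, hx₀⟩ := exists_epi_lift π (e₁ ≫ x)
      refine factors_of_epi K' e₁ _ (factors_of_epi K' e₂ _ ?_)
      have hg' : e₂ ≫ e₁ ≫ g = (e₂ ≫ g₀) ≫ π := by rw [hg₀, Category.assoc]
      rw [comp_mul', comp_mul', comp_mul', comp_mul', comp_inv', comp_inv', hg', hx₀, hπ, hπ,
        ← map_inv, ← map_mul, ← map_mul]
      refine (pullback_factors_iff π K' _).1 (h _ _ _ ((pullback_factors_iff π K' x₀).2 ?_))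
      rw [← hx₀]
      exact Subobject.factors_of_factors_right _ (Subobject.factors_of_factors_right _ hx)

end grp

end Groth.Agent.ShfQuot.Sub
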